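import Cfsg.Agent.JankoFourIndex.Upper
import Cfsg.Agent.JankoFour.HBound
import Cfsg.Agent.JankoFour.Lower

/-!
The order of the presented fourth Janko group and the index of `2¹¹:M₂₄`, from a faithful action of the
subgroup on two generators and its isomorphism type.
-/

set_option autoImplicit false

namespace CfsgLib.JankoFourIndex

open CfsgLib.JankoFour CfsgLib.HNCert

theorem hSub_eq_HJ : hSub = HJ := by
  have h : HBound.sJ = sJ := by
    simp [HBound.sJ, sJ, wJ, HBound.wv, HBound.lv, HBound.sW, pow_succ, mul_assoc]
  rw [HJ, h]

theorem faithful (M : Model) : HBound.Faithful := by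
  intro v w e
  have hval : ∀ u : List ℕ, HBound.wv u = (wordM u : mSub) := by
    intro u
    induction u with
    | nil => rfl
    | cons c u ih =>
      rw [show HBound.wv (c :: u) = HBound.lv c * HBound.wv u by simp [HBound.wv], ih, wordM,
        Subgroup.coe_mul]
      congr 1
      rcases c with _ | _ | c <;> rfl
  have hpt : ∀ (u : List ℕ) (i : Fin 24), (mv M.π (wordM u) i).val = HBound.ptW u i.val := by
    intro u
    induction u with
    | nil => intro i; rw [wordM, mv_one]; rfl
    | cons c u ih =>
      intro i
      rw [wordM, mv_mul, ih, (is_letM (M := M) c) i]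
      rcases c with _ | _ | c <;> rfl
  rw [hval, hval]
  congr 1
  refine inv_injective (M.inj (Equiv.ext fun i => ?_))
  rw [map_inv, map_inv]
  refine Fin.ext ?_
  show (mv M.π (wordM v) i).val = (mv M.π (wordM w) i).val
  rw [hpt, hpt]
  exact Nat.eq_of_beq_eq_true (List.all_eq_true.1 e i.val (List.mem_range.2 i.isLt))

variable (M : Model)
include M

theorem finite_J4 : Finite Cfsg.Spor.J4 := by
  have := M.finite
  have := finite_quotient M
  have hf : Finite hSub := hSub_eq_HJ ▸ finite_HJ (faithful M)
  exact Finite.of_equiv _ (Subgroup.groupEquivQuotientProdSubgroup (s := hSub)).symm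

theorem card_hSub_le : Nat.card hSub ≤ 501397585920 := by
  have := M.finite
  rw [hSub_eq_HJ]
  exact card_HJ_le (faithful M) M.card_le

theorem card_J4_le : Nat.card Cfsg.Spor.J4 ≤ 86775571046077562880 := by
  rw [← Subgroup.index_mul_card hSub]
  exact (Nat.mul_le_mul (index_le M) (card_hSub_le M)).trans (by norm_num)

variable (e : Nonempty (mSub ≃* Cfsg.M24))
include e

theorem card_J4 : Nat.card Cfsg.Spor.J4 = 86775571046077562880 := by
  have := finite_J4 M
  refine le_antisymm (card_J4_le M) ?_
  refine (Nat.le_of_dvd Nat.card_pos (card_range_rep_dvd_of e)).trans ?_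
  exact Nat.card_le_card_of_surjective _ CfsgLib.JankoFourRep.rep.rangeRestrict_surjective

theorem index_hSub : hSub.index = 173067389 := by
  have := finite_J4 M
  have h := Subgroup.index_mul_card hSub
  rw [card_J4 M e] at h
  refine le_antisymm (index_le M) ?_
  by_contra hlt
  rw [not_le] at hlt
  have hH := card_hSub_le M
  nlinarith

theorem rep_injective : Function.Injective CfsgLib.JankoFourRep.rep := by
  have := finite_J4 M
  have hsurj := CfsgLib.JankoFourRep.rep.rangeRestrict_surjective
  have hle : Nat.card Cfsg.Spor.J4 ≤ Nat.card CfsgLib.JankoFourRep.rep.range := by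
    rw [card_J4 M e]
    exact Nat.le_of_dvd Nat.card_pos (card_range_rep_dvd_of e)
  have hb := (hsurj.bijective_of_nat_card_le hle).1
  intro a b h
  exact hb (Subtype.ext h)

end CfsgLib.JankoFourIndex
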