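import Cfsg.Agent.JankoFourIndex.Pack
import Cfsg.Agent.JankoFour.Basic
import Cfsg.Agent.HNCert.Chain

/-!
The subgroup of the presented fourth Janko group on two generators, seen on twenty-four points.
-/

set_option autoImplicit false

namespace CfsgLib.JankoFourIndex

open CfsgLib.JankoFour CfsgLib.HNCert

/-- The images of the points under `x`. -/
def permX : ℕ := 0x69a2158ea941ee098a0f7588592a8c

/-- The images of the points under `y`. -/
def permY : ℕ := 0xb88a99ac12786ac838913d9b419948

/-- The images of the points under the inverse of `y`. -/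
def permYI : ℕ := 0xb99a49c10b7a8ac9068038aa91d9d1

/-- The generator `x` in the subgroup. -/
def xM : mSub := ⟨xJ, Subgroup.subset_closure (Or.inl rfl)⟩

/-- The generator `y` in the subgroup. -/
def yM : mSub := ⟨yJ, Subgroup.subset_closure (Or.inr rfl)⟩

/-- A faithful action of the subgroup on twenty-four points. -/
structure Model where
  /-- The action. -/
  π : mSub →* Equiv.Perm (Fin 24)
  inj : Function.Injective π
  px : ∀ i, (mv π xM i).val = pg permX i.val
  py : ∀ i, (mv π yM i).val = pg permY i.val
  card_le : Nat.card mSub ≤ 244823040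

variable (M : Model)

/-- The element acts as the packed list says. -/
def Is (n : mSub) (A : ℕ) : Prop := ∀ i : Fin 24, (mv M.π n i).val = pg A i.val

variable {M}

theorem Model.finite (M : Model) : Finite mSub := Finite.of_injective _ M.inj

theorem is_one : Is M 1 pid := fun i => by rw [mv_one, pg_pid]

theorem Is.mul {n m : mSub} {A B : ℕ} (h : Is M n A) (h' : Is M m B) : Is M (n * m) (pmul A B) :=
  fun i => by rw [mv_mul, h', pg_pmul, h i]

theorem Is.eq {n m : mSub} {A : ℕ} (h : Is M n A) (h' : Is M m A) : n = m := by
  refine inv_injective (M.inj (Equiv.ext fun i => ?_))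
  rw [map_inv, map_inv]
  exact Fin.ext ((h i).trans (h' i).symm)

theorem Is.eq_one {n : mSub} (h : Is M n pid) : n = 1 := h.eq is_one

theorem Is.inv {n : mSub} {A A' : ℕ} (h : Is M n A) (e : pmul A A' = pid) : Is M n⁻¹ A' := by
  intro j
  obtain ⟨i, rfl⟩ : ∃ i, mv M.π n i = j := ⟨mv M.π n⁻¹ j, by rw [← mv_mul, inv_mul_cancel, mv_one]⟩
  rw [mv_inv, h i, ← pg_pmul, e, pg_pid]

theorem is_x : Is M xM permX := M.px

theorem is_y : Is M yM permY := M.py

theorem is_yInv : Is M yM⁻¹ permYI := is_y.inv (by decide +kernel)

/-- The element of a letter: `0` for `x`, `1` for `y`, otherwise the inverse of `y`. -/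
def letM (c : ℕ) : mSub := if c = 0 then xM else if c = 1 then yM else yM⁻¹

/-- The list of a letter. -/
def letP (c : ℕ) : ℕ := bif Nat.beq c 0 then permX else bif Nat.beq c 1 then permY else permYI

/-- The element of a word. -/
def wordM : List ℕ → mSub
  | [] => 1
  | c :: w => letM c * wordM w

/-- The list of a word. -/
def wordP : List ℕ → ℕ
  | [] => pid
  | c :: w => pmul (letP c) (wordP w)

theorem is_letM (c : ℕ) : Is M (letM c) (letP c) := by
  match c with
  | 0 => exact is_x
  | 1 => exact is_y
  | n + 2 => exact is_yInv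

theorem is_wordM : ∀ w : List ℕ, Is M (wordM w) (wordP w)
  | [] => is_one
  | c :: w => (is_letM c).mul (is_wordM w)

theorem gens_generate : Subgroup.closure ({xM, yM} : Set mSub) = ⊤ := by
  rw [← Subgroup.closure_closure_coe_preimage (k := ({xJ, yJ} : Set Cfsg.Spor.J4))]
  congr 1
  ext z
  simp only [Set.mem_insert_iff, Set.mem_singleton_iff, Set.mem_preimage, Subtype.ext_iff]
  rfl

end CfsgLib.JankoFourIndex
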