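import Cfsg.Agent.JankoFourIndex.Model

/-!
Checked straight line programs and transversal chains in the subgroup on two generators.
-/

set_option autoImplicit false

namespace CfsgLib.JankoFourIndex

open CfsgLib.JankoFour CfsgLib.HNCert

/-- No entry is repeated. -/
def nodupB : List ℕ → Bool
  | [] => true
  | a :: l => l.all (fun b => !(Nat.beq a b)) && nodupB l

theorem nodupB_spec : ∀ l : List ℕ, nodupB l = true → l.Nodup
  | [], _ => List.nodup_nil
  | a :: l, h => by
    simp only [nodupB, Bool.and_eq_true, List.all_eq_true] at h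
    refine List.nodup_cons.2 ⟨fun ha => ?_, nodupB_spec l h.2⟩
    have := h.1 a ha
    simp at this

/-- The list of a node of a straight line program. -/
def nodeP (N : List (ℕ × ℕ × ℕ)) (j : ℕ) : ℕ := (N.getD j (0, 0, 0)).1

/-- A straight line program over given generators. -/
def okSlp (gens : List ℕ) (N : List (ℕ × ℕ × ℕ)) : Bool :=
  (List.range N.length).all fun j =>
    let e := N.getD j (0, 0, 0)
    bif Nat.blt j gens.length then Nat.beq e.1 (gens.getD j 0)
    else Nat.blt e.2.1 j && (Nat.blt e.2.2 j && Nat.beq e.1 (pmul (nodeP N e.2.1) (nodeP N e.2.2)))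

variable {M : Model}

theorem slp_spec {W : Subgroup mSub} {gens : List ℕ} {N : List (ℕ × ℕ × ℕ)}
    (hg : ∀ A ∈ gens, ∃ n ∈ W, Is M n A) (h : okSlp gens N = true) :
    ∀ j < N.length, ∃ n ∈ W, Is M n (nodeP N j) := by
  intro j
  induction j using Nat.strong_induction_on with
  | _ j ih =>
    intro hj
    have hk := List.all_eq_true.1 h j (List.mem_range.2 hj)
    simp only at hk
    cases hb : Nat.blt j gens.length
    · simp only [hb, cond_false, Bool.and_eq_true, Nat.blt_eq] at hk
      obtain ⟨ha, hb', e⟩ := hk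
      obtain ⟨n, hn, hn'⟩ := ih _ ha (ha.trans hj)
      obtain ⟨m, hm, hm'⟩ := ih _ hb' (hb'.trans hj)
      refine ⟨n * m, W.mul_mem hn hm, ?_⟩
      rw [nodeP, Nat.eq_of_beq_eq_true e]
      exact hn'.mul hm'
    · simp only [hb, cond_true] at hk
      have hl : j < gens.length := Nat.le_of_ble_eq_true hb
      rw [nodeP, Nat.eq_of_beq_eq_true hk, List.getD_eq_getElem _ _ hl]
      exact hg _ (List.getElem_mem hl)

/-- The transversals of a chain are right. -/
def okChain (N : List (ℕ × ℕ × ℕ)) : List (ℕ × List ℕ) → Bool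
  | [] => true
  | (b, L) :: D => Nat.blt b 24 && (L.all (fun j => Nat.blt j N.length) &&
      (nodupB (L.map fun j => pg (nodeP N j) b) &&
        ((D.all fun e => e.2.all fun j => Nat.beq (pg (nodeP N j) b) b) && okChain N D)))

theorem le_card_of_chain {W : Subgroup mSub} {gens : List ℕ} {N : List (ℕ × ℕ × ℕ)}
    {D : List (ℕ × List ℕ)} (hg : ∀ A ∈ gens, ∃ n ∈ W, Is M n A) (h : okSlp gens N = true)
    (hD : okChain N D = true) : (D.map fun e => e.2.length).prod ≤ Nat.card W := by
  classical
  have := M.finite
  let el : ℕ → mSub := fun j => if hj : j < N.length then (slp_spec hg h j hj).choose else 1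
  have hel : ∀ j, j < N.length → el j ∈ W ∧ Is M (el j) (nodeP N j) := fun j hj => by
    simp only [el, dif_pos hj]
    exact (slp_spec hg h j hj).choose_spec
  let mk : List (ℕ × List ℕ) → List (Fin 24 × List mSub) := fun D =>
    D.map fun e => (Fin.ofNat 24 e.1, e.2.map el)
  have key : ∀ D, okChain N D = true → Ok M.π (mk D) ∧ ∀ e ∈ D, ∀ j ∈ e.2, j < N.length := by
    intro D
    induction D with
    | nil => exact fun _ => ⟨trivial, fun e he => absurd he List.not_mem_nil⟩
    | cons e D ih =>
      obtain ⟨b, L⟩ := e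
      intro hc
      simp only [okChain, Bool.and_eq_true, Nat.blt_eq, List.all_eq_true] at hc
      obtain ⟨hb, hL, hn, hf, hc⟩ := hc
      obtain ⟨h1, h2⟩ := ih hc
      have hv : (Fin.ofNat 24 b : Fin 24).val = b := by rw [Fin.val_ofNat, Nat.mod_eq_of_lt hb]
      refine ⟨⟨?_, ?_, h1⟩, ?_⟩
      · refine List.Nodup.of_map (fun i : Fin 24 => i.val) ?_
        rw [List.map_map, List.map_map]
        convert nodupB_spec _ hn using 1
        refine List.map_congr_left fun j hj => ?_
        show (mv M.π (el j) (Fin.ofNat 24 b)).val = _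
        rw [(hel j (hL j hj)).2, hv]
      · intro e he u hu
        obtain ⟨e', he', rfl⟩ := List.mem_map.1 he
        obtain ⟨j, hj, rfl⟩ := List.mem_map.1 hu
        refine Fin.ext ?_
        rw [(hel j (h2 e' he' j hj)).2, hv]
        exact Nat.eq_of_beq_eq_true (hf e' he' j hj)
      · intro e he j hj
        rcases List.mem_cons.1 he with rfl | he
        exacts [hL j hj, h2 e he j hj]
  obtain ⟨h1, h2⟩ := key D hD
  have hsz : ∀ D, size (mk D) = (D.map fun e => e.2.length).prod := by
    intro D
    induction D with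
    | nil => rfl
    | cons e D ih =>
      show size (mk D) * (e.2.map el).length = _
      rw [ih, List.length_map, List.map_cons, List.prod_cons, mul_comm]
  rw [← hsz D]
  refine size_le h1 ?_
  intro e he u hu
  obtain ⟨e', he', rfl⟩ := List.mem_map.1 he
  obtain ⟨j, hj, rfl⟩ := List.mem_map.1 hu
  exact (hel j (h2 e' he' j hj)).1

end CfsgLib.JankoFourIndex
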