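import Cfsg.Agent.JankoFourIndex.Facts

/-! The facts from number 256 check. -/

set_option autoImplicit false
set_option Elab.async false
set_option maxRecDepth 100000

namespace CfsgLib.JankoFourIndex

open CfsgLib.CosetEnum

theorem facts_ok1 : allR (fun i => bif Nat.blt i nFacts then checkFact i else true) 8 256 = true := by
  decide +kernel

end CfsgLib.JankoFourIndex
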