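import Cfsg.Agent.JankoFourIndex.Trees

/-! The transversal chains of the stabilisers check. -/

set_option autoImplicit false
set_option Elab.async false
set_option maxRecDepth 100000

namespace CfsgLib.JankoFourIndex

/-- The generators of a stabiliser and their inverses. -/
def sGensP (i : ℕ) : List ℕ :=
  (sGens.getD i []).map genP ++ (sGens.getD i []).map fun f => pmul (fB f) (fA' f)

/-- A stabiliser checks. -/
def okStab (i : ℕ) (N : List (ℕ × ℕ × ℕ)) (D : List (ℕ × List ℕ)) : Bool :=
  okSlp (sGensP i) N && (okChain N D && (Nat.beq (orbSize.getD i 0 * (D.map fun e => e.2.length).prod) 244823040 &&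
    (sGens.getD i []).all fun f => Nat.blt f nFacts && (Nat.beq (fKind f) 0 && (Nat.beq (fI f) i && Nat.beq (fK f) i))))

theorem stab_ok0 : okStab 0 sNodes0 sChain0 = true := by decide +kernel

theorem stab_ok1 : okStab 1 sNodes1 sChain1 = true := by decide +kernel

theorem stab_ok2 : okStab 2 sNodes2 sChain2 = true := by decide +kernel

theorem stab_ok3 : okStab 3 sNodes3 sChain3 = true := by decide +kernel

theorem stab_ok4 : okStab 4 sNodes4 sChain4 = true := by decide +kernel

theorem stab_ok5 : okStab 5 sNodes5 sChain5 = true := by decide +kernel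

theorem stab_ok6 : okStab 6 sNodes6 sChain6 = true := by decide +kernel

theorem stab_ok7 : okStab 7 sNodes7 sChain7 = true := by decide +kernel

theorem stab_ok8 : okStab 8 sNodes8 sChain8 = true := by decide +kernel

theorem stab_ok9 : okStab 9 sNodes9 sChain9 = true := by decide +kernel

theorem stab_ok10 : okStab 10 sNodes10 sChain10 = true := by decide +kernel

theorem stab_ok11 : okStab 11 sNodes11 sChain11 = true := by decide +kernel

theorem stab_ok12 : okStab 12 sNodes12 sChain12 = true := by decide +kernel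

theorem stab_ok13 : okStab 13 sNodes13 sChain13 = true := by decide +kernel

theorem stab_ok14 : okStab 14 sNodes14 sChain14 = true := by decide +kernel

theorem stab_ok15 : okStab 15 sNodes15 sChain15 = true := by decide +kernel

theorem stab_ok16 : okStab 16 sNodes16 sChain16 = true := by decide +kernel

theorem stab_ok17 : okStab 17 sNodes17 sChain17 = true := by decide +kernel

theorem stab_ok18 : okStab 18 sNodes18 sChain18 = true := by decide +kernel

theorem stab_ok19 : okStab 19 sNodes19 sChain19 = true := by decide +kernel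

theorem stab_ok : ∀ i < 20, ∃ N D, okStab i N D = true := by
  intro i hi
  interval_cases i
  exacts [⟨_, _, stab_ok0⟩, ⟨_, _, stab_ok1⟩, ⟨_, _, stab_ok2⟩, ⟨_, _, stab_ok3⟩,
    ⟨_, _, stab_ok4⟩, ⟨_, _, stab_ok5⟩, ⟨_, _, stab_ok6⟩, ⟨_, _, stab_ok7⟩,
    ⟨_, _, stab_ok8⟩, ⟨_, _, stab_ok9⟩, ⟨_, _, stab_ok10⟩, ⟨_, _, stab_ok11⟩,
    ⟨_, _, stab_ok12⟩, ⟨_, _, stab_ok13⟩, ⟨_, _, stab_ok14⟩, ⟨_, _, stab_ok15⟩,
    ⟨_, _, stab_ok16⟩, ⟨_, _, stab_ok17⟩, ⟨_, _, stab_ok18⟩, ⟨_, _, stab_ok19⟩]

end CfsgLib.JankoFourIndex
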