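import Cfsg.Agent.JankoFourIndex.Trees

/-! Trees of the orbits from number 0 check. -/

set_option autoImplicit false
set_option Elab.async false
set_option maxRecDepth 100000

namespace CfsgLib.JankoFourIndex

open CfsgLib.CosetEnum

theorem tree_ok0 : allR (okTree 0) 12 0 = true := by decide +kernel

theorem tree_ok1 : allR (okTree 1) 12 0 = true := by decide +kernel

theorem tree_ok2 : allR (okTree 2) 12 0 = true := by decide +kernel

theorem tree_ok3 : allR (okTree 3) 12 0 = true := by decide +kernel

end CfsgLib.JankoFourIndex
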