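import Cfsg.Agent.JankoFourIndex.Trees

/-! Trees of the orbits from number 4 check. -/

set_option autoImplicit false
set_option Elab.async false
set_option maxRecDepth 100000

namespace CfsgLib.JankoFourIndex

open CfsgLib.CosetEnum

theorem tree_ok4 : allR (okTree 4) 12 0 = true := by decide +kernel

theorem tree_ok5 : allR (okTree 5) 12 0 = true := by decide +kernel

theorem tree_ok6 : allR (okTree 6) 12 0 = true := by decide +kernel

theorem tree_ok7 : allR (okTree 7) 12 0 = true := by decide +kernel

end CfsgLib.JankoFourIndex
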