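import Cfsg.Agent.JankoFourIndex.Trees

/-! Trees of the orbits from number 8 check. -/

set_option autoImplicit false
set_option Elab.async false
set_option maxRecDepth 100000

namespace CfsgLib.JankoFourIndex

open CfsgLib.CosetEnum

theorem tree_ok8 : allR (okTree 8) 12 0 = true := by decide +kernel

theorem tree_ok9 : allR (okTree 9) 12 0 = true := by decide +kernel

theorem tree_ok10 : allR (okTree 10) 12 0 = true := by decide +kernel

theorem tree_ok11 : allR (okTree 11) 12 0 = true := by decide +kernel

end CfsgLib.JankoFourIndex
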