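import Cfsg.Agent.JankoFourIndex.Stab
import Cfsg.Agent.JankoFourIndex.FactData
import Cfsg.Agent.JankoFourIndex.MoveData

/-!
Facts `H r_i a = H r_k b` and `H r_i a t = H r_k b`, with `a, b` in the subgroup on two generators,
each derived from earlier ones by going round a relator, and their checker.
-/

set_option autoImplicit false
set_option Elab.async false
set_option maxRecDepth 100000

namespace CfsgLib.JankoFourIndex

open CfsgLib.JankoFour CfsgLib.HNCert CfsgLib.CosetEnum Cfsg.Spor

/-- The word `(y x)⁴ y⁻¹ x`. -/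
def wJ : Cfsg.Spor.J4 := (yJ * xJ) ^ 4 * yJ⁻¹ * xJ

/-- The third generator of the subgroup. -/
def sJ : Cfsg.Spor.J4 := (yJ * wJ⁻¹ * tJ * wJ) ^ 3

/-- The subgroup whose cosets are counted. -/
abbrev hSub : Subgroup Cfsg.Spor.J4 := Subgroup.closure {xJ, yJ, sJ}

/-- Two elements lie in one right coset. -/
def Same (a b : Cfsg.Spor.J4) : Prop := a * b⁻¹ ∈ hSub

theorem Same.refl (a : Cfsg.Spor.J4) : Same a a := by
  rw [Same, mul_inv_cancel]; exact one_mem _

theorem Same.symm {a b : Cfsg.Spor.J4} (h : Same a b) : Same b a := by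
  have := inv_mem h
  rwa [mul_inv_rev, inv_inv] at this

theorem Same.trans {a b c : Cfsg.Spor.J4} (h : Same a b) (h' : Same b c) : Same a c := by
  have := mul_mem h h'
  rwa [mul_assoc, inv_mul_cancel_left] at this

theorem Same.mul_right {a b : Cfsg.Spor.J4} (h : Same a b) (c : Cfsg.Spor.J4) :
    Same (a * c) (b * c) := by
  rwa [Same, mul_inv_rev, mul_assoc, mul_inv_cancel_left]

theorem coe_mem (n : mSub) : (n : Cfsg.Spor.J4) ∈ hSub :=
  Subgroup.closure_mono (by intro z; simp +contextual [or_imp]) n.2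

/-- The word of a segment. -/
def segW (j : ℕ) : List ℕ := segWords.getD j []

/-- A segment in the group. -/
def segJ (j : ℕ) : Cfsg.Spor.J4 := (wordM (segW j) : mSub)

/-- The word of the start of the chain of the third generator. -/
def h0Word : List ℕ := 1 :: invWord (segW 4)

/-- The values of the tokens. -/
def tokJ (c : ℕ) : Cfsg.Spor.J4 :=
  if c = 0 then tJ else
    if c = 6 then (tJ * segJ 3 * tJ * segJ 3 * tJ * segJ 4)⁻¹ else segJ (c - 1)

/-- The product of a list of tokens. -/
def tokProd (L : List ℕ) : Cfsg.Spor.J4 := (L.map tokJ).prod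

/-- The relators as lists of tokens. -/
def cycles : List (List ℕ) := [[0, 1, 0, 1, 0, 1], [0, 2, 0, 3, 0, 2, 0, 3], [0, 4, 0, 4, 0, 5, 6], [0, 0]]

/-- A rotated relator. -/
def rotC (r : ℕ) : List ℕ :=
  let c := cycles.getD (Nat.land r 3) []
  c.drop (Nat.shiftRight r 2) ++ c.take (Nat.shiftRight r 2)

/-- The defining word of a representative. -/
def repW (k : ℕ) : List ℕ := (repTab.getD k (0, [])).2

/-- The earlier representative. -/
def repI (k : ℕ) : ℕ := (repTab.getD k (0, [])).1

/-- The representatives, with a bound on the depth. -/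
noncomputable def repN : ℕ → ℕ → Cfsg.Spor.J4
  | 0, _ => 1
  | n + 1, k => if k = 0 then 1 else repN n (repI k) * (wordM (repW k) : mSub) * tJ

/-- The representatives of the double cosets. -/
noncomputable def repG (k : ℕ) : Cfsg.Spor.J4 := repN 20 k

/-- The element at the start of a fact. -/
def fA (f : ℕ) : ℕ := tab fATab f

/-- Its inverse. -/
def fA' (f : ℕ) : ℕ := tab fAITab f

/-- The element at the end of a fact. -/
def fB (f : ℕ) : ℕ := tab fBTab f

/-- Its inverse. -/
def fB' (f : ℕ) : ℕ := tab fBITab f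

/-- The code of a fact. -/
def fC (f : ℕ) : ℕ := tab fCTab f

/-- Whether a final `t` is present. -/
def fKind (f : ℕ) : ℕ := Nat.land (fC f) 1

/-- The way the fact arises. -/
def fHow (f : ℕ) : ℕ := Nat.land (Nat.shiftRight (fC f) 1) 3

/-- The representative at the start. -/
def fI (f : ℕ) : ℕ := Nat.land (Nat.shiftRight (fC f) 3) 31

/-- The representative at the end. -/
def fK (f : ℕ) : ℕ := Nat.land (Nat.shiftRight (fC f) 8) 31

/-- The rotation of a relator. -/
def fRot (f : ℕ) : ℕ := Nat.shiftRight (fC f) 13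

/-- The coordinates of the start of the chain. -/
def fS (f : ℕ) : ℕ := tab fSTab f

/-- The moves of the chain. -/
def fMoves (f : ℕ) : List ℕ := (fMTab.getD (Nat.shiftRight f 6) []).getD (Nat.land f 63) []

/-- The number of facts. -/
def nFacts : ℕ := 1855

/-- The first element of a chain start. -/
def h0P : ℕ := wordP h0Word

/-- The colouring of the first trio. -/
def c0 : ℕ := trioP trio0

/-- Follow moves from `(s, h)`: the tokens consumed are `toks`, and `(k, b)` is reached. -/
def follow (f k b : ℕ) : List ℕ → ℕ → ℕ → List ℕ → Bool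
  | [], s, h, toks => Nat.beq s k && (Nat.beq h b && toks.isEmpty)
  | m :: ms, s, h, toks =>
    let op := Nat.land m 3
    let g := Nat.shiftRight m 3
    let fw := Nat.beq (Nat.land (Nat.shiftRight m 2) 1) 1
    bif Nat.beq op 0 then
      match toks with
      | c :: toks => force (Nat.shiftRight m 2) fun j =>
          Nat.blt j 5 && (Nat.beq c (Nat.succ j) &&
            force (pmul h (wordP (segW j))) fun h' => follow f k b ms s h' toks)
      | [] => false
    else bif Nat.beq op 1 then
      Nat.blt g f && (Nat.beq (fKind g) 0 && (Nat.beq (fI g) s && (Nat.beq (fK g) s &&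
        (bif fw then force (pmul (fA g) (pmul (fB' g) h)) fun h' => follow f k b ms s h' toks
         else force (pmul (fB g) (pmul (fA' g) h)) fun h' => follow f k b ms s h' toks))))
    else bif Nat.beq op 2 then
      match toks with
      | c :: toks => Nat.beq c 0 && (Nat.blt g f && (Nat.beq (fKind g) 1 &&
          (bif fw then Nat.beq (fI g) s && force (pmul (fA' g) h) fun c =>
              mapsC c c0 c0 && force (pmul (fB g) c) fun h' => follow f k b ms (fK g) h' toks
           else Nat.beq (fK g) s && force (pmul (fB' g) h) fun c =>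
              mapsC c c0 c0 && force (pmul (fA g) c) fun h' => follow f k b ms (fI g) h' toks)))
      | [] => false
    else
      match toks with
      | c :: toks => Nat.beq c 6 && (Nat.beq s 0 && (Nat.beq h pid &&
          force h0P fun h' => follow f k b ms 0 h' toks))
      | [] => false

/-- Check of a fact. -/
def checkFact (f : ℕ) : Bool :=
  Nat.beq (pmul (fA f) (fA' f)) pid && (Nat.beq (pmul (fB f) (fB' f)) pid &&
    force (fHow f) fun w =>
      bif Nat.blt w 2 then
        Nat.beq (fKind f) 0 && (Nat.beq (fI f) 0 && (Nat.beq (fK f) 0 && (Nat.beq (fB f) pid &&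
          Nat.beq (fA f) (bif Nat.beq w 0 then permX else permY))))
      else bif Nat.beq w 2 then
        force (fK f) fun k => Nat.blt k 20 && (!Nat.beq k 0 && (Nat.beq (fKind f) 1 &&
          (Nat.beq (fI f) (repI k) && (Nat.beq (fB f) pid && Nat.beq (fA f) (wordP (repW k))))))
      else bif Nat.beq (fKind f) 1 then
        okCoord (fS f) nChain && (Nat.beq (fB f) (ofCoord (fS f) nChain) &&
          (match (rotC (fRot f)).reverse with
          | c :: toks => Nat.beq c 0 &&
              follow f (fI f) (fA f) (fMoves f) (fK f) (fB f) toks.reverse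
          | [] => false))
      else
        okCoord (fS f) nChain && (Nat.beq (fA f) (ofCoord (fS f) nChain) &&
          (Nat.beq (fKind f) 0 &&
            follow f (fK f) (fB f) (fMoves f) (fI f) (fA f) (rotC (fRot f)))))

theorem rep_ok : ∀ k < 20, k ≠ 0 → repI k < k := by decide +kernel

theorem repG_zero : repG 0 = 1 := by rw [repG, repN, if_pos rfl]

theorem repN_succ : ∀ n k, k < 20 → k ≤ n → repN (n + 1) k = repN n k
  | 0, k, _, h => by
    show (if k = 0 then (1 : Cfsg.Spor.J4) else _) = 1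
    exact if_pos (Nat.le_zero.1 h)
  | n + 1, k, hk, h => by
    rw [repN]
    conv_rhs => rw [repN]
    split_ifs with h0
    · rfl
    · have hr := rep_ok k hk h0
      rw [repN_succ n (repI k) (by omega) (by omega)]

theorem repG_succ {k : ℕ} (hk : k < 20) (h0 : k ≠ 0) :
    repG k = repG (repI k) * (wordM (repW k) : mSub) * tJ := by
  have hr := rep_ok k hk h0
  rw [repG, repG, repN, if_neg h0, repN_succ 19 (repI k) (by omega) (by omega)]

theorem tJ_mul_self : tJ * tJ = 1 := by rw [← sq, tJ_sq]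

theorem tJ_inv : tJ⁻¹ = tJ := inv_eq_of_mul_eq_one_right tJ_mul_self

theorem conj_one {v u w : Cfsg.Spor.J4} (h : v = 1) (e : u * v * u⁻¹ = w) : w = 1 := by
  rw [h, mul_one, mul_inv_cancel] at e
  exact e.symm

theorem segJ_eq (j : ℕ) : segJ j =
    ((segW j).map fun c => if c = 0 then xJ else if c = 1 then yJ else yJ⁻¹).prod := coe_wordM _

theorem xJ_inv : xJ⁻¹ = xJ := inv_eq_of_mul_eq_one_right (by rw [← sq, xJ_sq])

/-- The word `y x y⁻¹ x y x y⁻¹ x`. -/
def aJ : Cfsg.Spor.J4 := yJ * xJ * yJ⁻¹ * xJ * yJ * xJ * yJ⁻¹ * xJ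

theorem seg0 : segJ 0 = aJ * yJ * aJ⁻¹ := by
  simp [segJ_eq, segW, segWords, aJ, xJ_inv, mul_assoc]

/-- The word `(x y)³ y (x y)⁶ y`. -/
def bJ : Cfsg.Spor.J4 := (xJ * yJ) ^ 3 * yJ * ((xJ * yJ) ^ 6) * yJ

/-- The word `(y x y x y x y)³`. -/
def mJ : Cfsg.Spor.J4 := (yJ * xJ * yJ * xJ * yJ * xJ * yJ) ^ 3

theorem seg1 : segJ 1 = bJ⁻¹ := by
  simp [segJ_eq, segW, segWords, bJ, xJ_inv, pow_succ, mul_assoc]

theorem seg2 : segJ 2 = bJ * mJ := by
  simp [segJ_eq, segW, segWords, bJ, mJ, pow_succ, mul_assoc]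

theorem seg3 : segJ 3 = wJ * yJ * wJ⁻¹ := by
  simp [segJ_eq, segW, segWords, wJ, xJ_inv, pow_succ, mul_assoc]

theorem seg4 : segJ 4 = wJ := by
  simp [segJ_eq, segW, segWords, wJ, pow_succ, mul_assoc]

theorem coe_h0 : ((wordM h0Word : mSub) : Cfsg.Spor.J4) = yJ * wJ⁻¹ := by
  simp [coe_wordM, h0Word, invWord, segW, segWords, wJ, xJ_inv, pow_succ, mul_assoc]

theorem relA : tokProd [0, 1, 0, 1, 0, 1] = 1 := by
  have h := rel_eq_one (w := (J4.y * ((J4.y * J4.x * (J4.y⁻¹) * J4.x * J4.y * J4.x * (J4.y⁻¹) *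
    J4.x)⁻¹ * J4.t * (J4.y * J4.x * (J4.y⁻¹) * J4.x * J4.y * J4.x * (J4.y⁻¹) * J4.x))) ^ 3)
    (by simp [J4.extra])
  simp only [map_mul, map_inv, map_pow] at h
  change (yJ * (aJ⁻¹ * tJ * aJ)) ^ 3 = 1 at h
  have e : (aJ * yJ * aJ⁻¹ * tJ) ^ 3 = 1 := by
    refine conj_one h (u := aJ) ?_
    rw [← conj_pow]
    congr 1
    group
  refine conj_one e (u := tJ) ?_
  simp [tokProd, tokJ, seg0, pow_succ, mul_assoc]

theorem relB : tokProd [0, 2, 0, 3, 0, 2, 0, 3] = 1 := by
  have h := rel_eq_one (w := (((J4.y * J4.x * J4.y * J4.x * J4.y * J4.x * J4.y) ^ 3) * J4.t *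
    ((((J4.x * J4.y) ^ 3) * J4.y * ((J4.x * J4.y) ^ 6) * J4.y)⁻¹ * J4.t *
      (((J4.x * J4.y) ^ 3) * J4.y * ((J4.x * J4.y) ^ 6) * J4.y))) ^ 2) (by simp [J4.extra])
  simp only [map_mul, map_inv, map_pow] at h
  change (mJ * tJ * (bJ⁻¹ * tJ * bJ)) ^ 2 = 1 at h
  refine conj_one h (u := mJ⁻¹) ?_
  simp [tokProd, tokJ, seg1, seg2, pow_succ, mul_assoc]

theorem sJ_eq : (wordM h0Word : mSub) * (tJ * segJ 3 * tJ * segJ 3 * tJ * segJ 4) = sJ := by
  simp [coe_h0, seg3, seg4, sJ, pow_succ, mul_assoc]

theorem relC : tokProd [0, 4, 0, 4, 0, 5, 6] = 1 := by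
  simp [tokProd, tokJ, mul_assoc]

theorem prod_cycle : ∀ c ∈ cycles, tokProd c = 1 := by
  intro c hc
  simp only [cycles, List.mem_cons, List.not_mem_nil, or_false] at hc
  rcases hc with rfl | rfl | rfl | rfl
  exacts [relA, relB, relC, by simp [tokProd, tokJ, tJ_mul_self]]

theorem prod_rotC (r : ℕ) : tokProd (rotC r) = 1 := by
  show tokProd ((cycles.getD (Nat.land r 3) []).drop _ ++ (cycles.getD (Nat.land r 3) []).take _) = 1
  have h : tokProd (cycles.getD (Nat.land r 3) []) = 1 := by
    by_cases hj : Nat.land r 3 < cycles.length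
    · rw [List.getD_eq_getElem _ _ hj]; exact prod_cycle _ (List.getElem_mem hj)
    · rw [List.getD_eq_default _ _ (Nat.le_of_not_lt hj)]; rfl
  rw [tokProd, List.map_append, List.prod_append]
  refine mul_eq_one_comm.1 ?_
  rw [← List.prod_append, ← List.map_append, List.take_append_drop]
  exact h

variable (M : Model)

/-- What a fact says. -/
def Says (f : ℕ) : Prop := ∃ a b : mSub, Is M a (fA f) ∧ Is M b (fB f) ∧
  pmul (fA f) (fA' f) = pid ∧ pmul (fB f) (fB' f) = pid ∧
  Same (repG (fI f) * a * (if fKind f = 1 then tJ else 1)) (repG (fK f) * b)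

variable {M}

theorem follow_sound {f k b : ℕ} (ih : ∀ g < f, Says M g) :
    ∀ (ms : List ℕ) (s h : ℕ) (toks : List ℕ), follow f k b ms s h toks = true →
      ∀ n, Is M n h → ∃ m, Is M m b ∧ Same (repG s * n * tokProd toks) (repG k * m)
  | [], s, h, toks, e, n, hn => by
    simp only [follow, Bool.and_eq_true, List.isEmpty_iff] at e
    obtain ⟨e1, e2, rfl⟩ := e
    refine ⟨n, Nat.eq_of_beq_eq_true e2 ▸ hn, ?_⟩
    simpa [tokProd, Nat.eq_of_beq_eq_true e1] using Same.refl (repG k * (n : Cfsg.Spor.J4))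
  | mv :: ms, s, h, toks, e, n, hn => by
    simp only [follow] at e
    cases h0 : Nat.beq (Nat.land mv 3) 0
    swap
    · rw [h0, cond_true] at e
      rcases toks with _ | ⟨c, toks⟩
      · simp at e
      simp only [force_eq, Bool.and_eq_true, Nat.blt_eq] at e
      obtain ⟨hj, hc, e⟩ := e
      generalize Nat.shiftRight mv 2 = j at hj hc e
      obtain ⟨m, hm, hS⟩ := follow_sound ih ms _ _ _ e _ (hn.mul (is_wordM (segW j)))
      refine ⟨m, hm, ?_⟩
      have hv : tokJ c = segJ j := by
        rw [Nat.eq_of_beq_eq_true hc, tokJ, if_neg (Nat.succ_ne_zero j), if_neg (by omega)]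
        rfl
      rw [tokProd, List.map_cons, List.prod_cons, hv]
      simpa [tokProd, segJ, mul_assoc] using hS
    rw [h0, cond_false] at e
    cases h1 : Nat.beq (Nat.land mv 3) 1
    swap
    · simp only [h1, cond_true, Bool.and_eq_true, Nat.blt_eq] at e
      obtain ⟨hg, hk, hi, hk', e⟩ := e
      obtain ⟨a, b', ha, hb, haa, hbb, hS⟩ := ih _ hg
      rw [Nat.eq_of_beq_eq_true hk, if_neg (by norm_num), mul_one, Nat.eq_of_beq_eq_true hi,
        Nat.eq_of_beq_eq_true hk'] at hS
      cases hfw : Nat.beq (Nat.land (Nat.shiftRight mv 2) 1) 1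
      · rw [hfw, cond_false, force_eq] at e
        obtain ⟨m, hm, hS'⟩ := follow_sound ih ms _ _ _ e _ (hb.mul ((ha.inv haa).mul hn))
        refine ⟨m, hm, Same.trans ?_ hS'⟩
        have h' := hS.mul_right ((a : Cfsg.Spor.J4)⁻¹ * n * tokProd toks)
        simpa [mul_assoc] using h'
      · rw [hfw, cond_true, force_eq] at e
        obtain ⟨m, hm, hS'⟩ := follow_sound ih ms _ _ _ e _ (ha.mul ((hb.inv hbb).mul hn))
        refine ⟨m, hm, Same.trans ?_ hS'⟩
        have h' := hS.symm.mul_right ((b' : Cfsg.Spor.J4)⁻¹ * n * tokProd toks)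
        simpa [mul_assoc] using h'
    rw [h1, cond_false] at e
    cases h2 : Nat.beq (Nat.land mv 3) 2
    swap
    · rw [h2, cond_true] at e
      rcases toks with _ | ⟨c, toks⟩
      · simp at e
      simp only [Bool.and_eq_true, Nat.blt_eq] at e
      obtain ⟨hc, hg, hk, e⟩ := e
      obtain ⟨a, b', ha, hb, haa, hbb, hS⟩ := ih _ hg
      rw [Nat.eq_of_beq_eq_true hk, if_pos rfl] at hS
      rw [tokProd, List.map_cons, List.prod_cons, Nat.eq_of_beq_eq_true hc, ← tokProd,
        show tokJ 0 = tJ from rfl]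
      cases hfw : Nat.beq (Nat.land (Nat.shiftRight mv 2) 1) 1
      · simp only [hfw, cond_false, force_eq, Bool.and_eq_true] at e
        obtain ⟨hs, hfix, e⟩ := e
        have hcn := (hb.inv hbb).mul hn
        have hcm := commute_of_mem_stabT (mem_stabT.2 (mapsC_spec hcn hfix) : b'⁻¹ * n ∈ stabT M)
        obtain ⟨m, hm, hS'⟩ := follow_sound ih ms _ _ _ e _ (ha.mul hcn)
        refine ⟨m, hm, Same.trans ?_ hS'⟩
        rw [← Nat.eq_of_beq_eq_true hs]
        set cc := ((b'⁻¹ * n : mSub) : Cfsg.Spor.J4) with hcc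
        have hn' : (n : Cfsg.Spor.J4) = b' * cc := by simp [hcc]
        have h' := hS.symm.mul_right (tJ * cc * tokProd toks)
        have e1 : tJ * (tJ * (cc * tokProd toks)) = cc * tokProd toks := by
          rw [← mul_assoc, tJ_mul_self, one_mul]
        simp only [mul_assoc, e1] at h'
        rw [Subgroup.coe_mul, ← hcc, hn']
        simp only [mul_assoc]
        rw [← mul_assoc cc tJ, ← hcm.eq, mul_assoc tJ cc]
        exact h'
      · simp only [hfw, cond_true, force_eq, Bool.and_eq_true] at e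
        obtain ⟨hs, hfix, e⟩ := e
        have hcn := (ha.inv haa).mul hn
        have hcm := commute_of_mem_stabT (mem_stabT.2 (mapsC_spec hcn hfix) : a⁻¹ * n ∈ stabT M)
        obtain ⟨m, hm, hS'⟩ := follow_sound ih ms _ _ _ e _ (hb.mul hcn)
        refine ⟨m, hm, Same.trans ?_ hS'⟩
        rw [← Nat.eq_of_beq_eq_true hs]
        set cc := ((a⁻¹ * n : mSub) : Cfsg.Spor.J4) with hcc
        have hn' : (n : Cfsg.Spor.J4) = a * cc := by simp [hcc]
        have h' := hS.mul_right (cc * tokProd toks)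
        simp only [mul_assoc] at h'
        rw [Subgroup.coe_mul, ← hcc, hn']
        simp only [mul_assoc]
        rw [← mul_assoc cc tJ, ← hcm.eq, mul_assoc tJ cc]
        exact h'
    rw [h2, cond_false] at e
    rcases toks with _ | ⟨c, toks⟩
    · simp at e
    simp only [force_eq, Bool.and_eq_true] at e
    obtain ⟨hc, hs, hh, e⟩ := e
    obtain ⟨m, hm, hS'⟩ := follow_sound ih ms _ _ _ e _ (is_wordM h0Word)
    refine ⟨m, hm, Same.trans ?_ hS'⟩
    have hn1 : n = 1 := (Nat.eq_of_beq_eq_true hh ▸ hn : Is M n pid).eq_one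
    rw [Nat.eq_of_beq_eq_true hs, hn1, tokProd, List.map_cons, List.prod_cons,
      Nat.eq_of_beq_eq_true hc, ← tokProd, repG_zero]
    simp only [one_mul, OneMemClass.coe_one, show tokJ 6 =
      (tJ * segJ 3 * tJ * segJ 3 * tJ * segJ 4)⁻¹ from rfl]
    refine Same.mul_right ?_ _
    rw [Same, ← mul_inv_rev, sJ_eq]
    exact inv_mem (Subgroup.subset_closure (by simp))

theorem says_of_check {n : ℕ} (hc : ∀ i < n, checkFact i = true) :
    ∀ i < n, Says M i := by
  intro i
  induction i using Nat.strong_induction_on with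
  | _ i ih =>
    intro hi
    have ih' : ∀ g < i, Says M g := fun g hg => ih g hg (hg.trans hi)
    have h := hc i hi
    simp only [checkFact, force_eq, Bool.and_eq_true] at h
    obtain ⟨haa, hbb, h⟩ := h
    have haa := Nat.eq_of_beq_eq_true haa
    have hbb := Nat.eq_of_beq_eq_true hbb
    cases h1 : Nat.blt (fHow i) 2
    swap
    · simp only [h1, cond_true, Bool.and_eq_true] at h
      obtain ⟨hk, hI, hK, hb, ha⟩ := h
      rw [Says, Nat.eq_of_beq_eq_true hk, if_neg (by norm_num), Nat.eq_of_beq_eq_true hI,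
        Nat.eq_of_beq_eq_true hK, Nat.eq_of_beq_eq_true hb]
      have fin : ∀ a : mSub, Is M a (fA i) → ∃ a b : mSub, Is M a (fA i) ∧ Is M b pid ∧
          pmul (fA i) (fA' i) = pid ∧ pmul pid (fB' i) = pid ∧
          Same (repG 0 * a * 1) (repG 0 * b) := fun a h' =>
        ⟨a, 1, h', is_one, haa, Nat.eq_of_beq_eq_true hb ▸ hbb,
          by rw [Same, repG_zero]; simpa using coe_mem a⟩
      cases hw : Nat.beq (fHow i) 0
      · rw [hw, cond_false] at ha
        exact fin yM (Nat.eq_of_beq_eq_true ha ▸ is_y)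
      · rw [hw, cond_true] at ha
        exact fin xM (Nat.eq_of_beq_eq_true ha ▸ is_x)
    rw [h1, cond_false] at h
    cases h2 : Nat.beq (fHow i) 2
    swap
    · simp only [h2, cond_true, Bool.and_eq_true, Nat.blt_eq, Bool.not_eq_true'] at h
      obtain ⟨hk20, hk0, hk, hI, hb, ha⟩ := h
      have hk0' : fK i ≠ 0 := fun c => by rw [c] at hk0; simp at hk0
      rw [Says, Nat.eq_of_beq_eq_true hk, if_pos rfl, Nat.eq_of_beq_eq_true hI]
      refine ⟨wordM (repW (fK i)), 1, Nat.eq_of_beq_eq_true ha ▸ is_wordM _,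
        Nat.eq_of_beq_eq_true hb ▸ is_one, haa, hbb, ?_⟩
      rw [repG_succ hk20 hk0', OneMemClass.coe_one, mul_one]
      exact Same.refl _
    rw [h2, cond_false] at h
    cases hk : Nat.beq (fKind i) 1
    · simp only [hk, cond_false, Bool.and_eq_true] at h
      obtain ⟨hco, ha, hk0, e⟩ := h
      obtain ⟨a, ha'⟩ := ofCoord_spec M _ _ hco
      rw [← Nat.eq_of_beq_eq_true ha] at ha'
      obtain ⟨b, hb', hS⟩ := follow_sound ih' _ _ _ _ e a ha'
      refine ⟨a, b, ha', hb', haa, hbb, ?_⟩
      rw [Nat.eq_of_beq_eq_true hk0, if_neg (by norm_num)]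
      rwa [prod_rotC] at hS
    · simp only [hk, cond_true, Bool.and_eq_true] at h
      obtain ⟨hco, hb, e⟩ := h
      obtain ⟨b, hb'⟩ := ofCoord_spec M _ _ hco
      rw [← Nat.eq_of_beq_eq_true hb] at hb'
      cases hr : (rotC (fRot i)).reverse with
      | nil => rw [hr] at e; simp at e
      | cons c toks =>
        rw [hr] at e
        simp only [Bool.and_eq_true] at e
        obtain ⟨a, ha', hS⟩ := follow_sound ih' _ _ _ _ e.2 b hb'
        refine ⟨a, b, ha', hb', haa, hbb, ?_⟩
        rw [Nat.eq_of_beq_eq_true hk, if_pos rfl]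
        have hp := prod_rotC (fRot i)
        rw [← List.reverse_reverse (rotC (fRot i)), hr, List.reverse_cons, tokProd,
          List.map_append, List.prod_append, ← tokProd, Nat.eq_of_beq_eq_true e.1] at hp
        simp only [List.map_cons, List.map_nil, List.prod_cons, List.prod_nil, mul_one,
          show tokJ 0 = tJ from rfl] at hp
        have h' := (hS.mul_right tJ).symm
        rw [mul_assoc (repG _ * _), hp, mul_one] at h'
        exact h'

end CfsgLib.JankoFourIndex
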