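import Cfsg.Agent.CosetEnum.Engine
import Mathlib

/-!
Lists of twenty-four points packed into numbers, five bits for each entry.
-/

set_option autoImplicit false

namespace CfsgLib.JankoFourIndex

open CfsgLib.CosetEnum

/-- An entry. -/
def pg (A i : ℕ) : ℕ := Nat.land (Nat.shiftRight A (Nat.mul 5 i)) 31

/-- The list with entries `f i`, `i < n`. -/
def pack (f : ℕ → ℕ) : ℕ → ℕ :=
  Nat.rec 0 (fun i acc => Nat.lor acc (Nat.shiftLeft (Nat.land (f i) 31) (Nat.mul 5 i)))

/-- First `A`, then `B`. -/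
def pmul (A B : ℕ) : ℕ := pack (fun i => pg B (pg A i)) 24

/-- The identity. -/
def pid : ℕ := pack (fun i => i) 24

/-- A Boolean at every point. -/
def all24 (f : ℕ → Bool) : Bool := Nat.rec true (fun i ih => f i && ih) 24

theorem all24_spec {f : ℕ → Bool} (h : all24 f = true) (i : Fin 24) : f i.val = true := by
  have key : ∀ n, (Nat.rec true (fun i ih => f i && ih) n : Bool) = true → ∀ i < n, f i = true := by
    intro n
    induction n with
    | zero => intro _ i hi; omega
    | succ n ih =>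
      intro h i hi
      simp only [Bool.and_eq_true] at h
      rcases Nat.lt_succ_iff_lt_or_eq.1 hi with hi | rfl
      exacts [ih h.2 i hi, h.1]
  exact key 24 h i.val i.isLt

theorem pg_lt (A i : ℕ) : pg A i < 32 := by
  show A >>> (5 * i) &&& 31 < 32
  exact Nat.lt_succ_of_le Nat.and_le_right

theorem pack_spec (f : ℕ → ℕ) : ∀ n, pack f n < 2 ^ (5 * n) ∧ ∀ i < n, pg (pack f n) i = f i % 32
  | 0 => ⟨by show (0 : ℕ) < _; simp, fun i hi => absurd hi (Nat.not_lt_zero i)⟩
  | n + 1 => by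
    obtain ⟨h1, h2⟩ := pack_spec f n
    have e : pack f (n + 1) = pack f n ||| ((f n &&& 31) <<< (5 * n)) := rfl
    have hm : f n &&& 31 = f n % 32 := Nat.and_two_pow_sub_one_eq_mod (f n) 5
    have e' : pack f (n + 1) = pack f n + 2 ^ (5 * n) * (f n % 32) := by
      rw [e, hm, Nat.or_comm, ← Nat.shiftLeft_add_eq_or_of_lt h1, Nat.shiftLeft_eq]
      ring
    refine ⟨?_, fun i hi => ?_⟩
    · rw [e', show 5 * (n + 1) = 5 * n + 5 by ring, pow_add]
      have : f n % 32 < 2 ^ 5 := Nat.mod_lt _ (by norm_num)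
      nlinarith [Nat.two_pow_pos (5 * n)]
    · have hp : ∀ A j, pg A j = A / 2 ^ (5 * j) % 32 := fun A j => by
        show A >>> (5 * j) &&& 31 = _
        rw [Nat.shiftRight_eq_div_pow]
        exact Nat.and_two_pow_sub_one_eq_mod _ 5
      rcases Nat.lt_succ_iff_lt_or_eq.1 hi with hi | rfl
      · rw [← h2 i hi, hp, hp, e']
        obtain ⟨d, rfl⟩ : ∃ d, n = i + (d + 1) := ⟨n - i - 1, by omega⟩
        rw [show 5 * (i + (d + 1)) = 5 * i + (5 + 5 * d) by ring, pow_add, mul_assoc,
          Nat.add_mul_div_left _ _ (Nat.two_pow_pos _), pow_add, mul_assoc]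
        norm_num
      · rw [hp, e', Nat.add_mul_div_left _ _ (Nat.two_pow_pos _), Nat.div_eq_of_lt h1, zero_add,
          Nat.mod_mod]

theorem pg_pmul (A B : ℕ) (i : Fin 24) : pg (pmul A B) i.val = pg B (pg A i.val) := by
  rw [pmul, (pack_spec _ 24).2 i.val i.isLt, Nat.mod_eq_of_lt (pg_lt _ _)]

theorem pg_pid (i : Fin 24) : pg pid i.val = i.val := by
  rw [pid, (pack_spec _ 24).2 i.val i.isLt, Nat.mod_eq_of_lt (by omega)]

end CfsgLib.JankoFourIndex
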