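import Cfsg.Agent.JankoFourIndex.Chains
import Cfsg.Agent.JankoFourIndex.TrioData

/-!
The trios as relations on twenty-four points, and the stabiliser of one of them.
-/

set_option autoImplicit false
set_option Elab.async false
set_option maxRecDepth 100000

namespace CfsgLib.JankoFourIndex

open CfsgLib.JankoFour CfsgLib.HNCert CfsgLib.CosetEnum

/-- An entry of a table. -/
def tab (D : List (List ℕ)) (p : ℕ) : ℕ :=
  (D.getD (Nat.shiftRight p 6) []).getD (Nat.land p 63) 0

/-- The colouring of a trio. -/
def trioP (p : ℕ) : ℕ := tab trioTab p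

/-- Relations on the points. -/
abbrev Part : Type := Fin 24 → Fin 24 → Prop

variable (M : Model)

/-- An element moves a relation. -/
def act (n : mSub) (R : Part) : Part := fun i j => R (mv M.π n i) (mv M.π n j)

/-- The relation of a colouring. -/
def colR (c : ℕ) : Part := fun i j => pg c i.val = pg c j.val

variable {M}

theorem act_one (R : Part) : act M 1 R = R := by
  funext i j; simp [act, mv_one]

theorem act_mul (n m : mSub) (R : Part) : act M (n * m) R = act M n (act M m R) := by
  funext i j; simp [act, mv_mul]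

theorem act_inv_act (n : mSub) (R : Part) : act M n⁻¹ (act M n R) = R := by
  rw [← act_mul, inv_mul_cancel, act_one]

/-- The image of a point in the second colouring. -/
def imC (A V i : ℕ) : ℕ := pg V (pg A i)

/-- The list carries the first colouring to the second; the labels are `0` and two stored ones. -/
def mapsC (A U V : ℕ) : Bool :=
  force (pg U 24) fun f1 => force (pg U 25) fun f2 =>
    (all24 fun i => force (pg U i) fun l =>
      (Nat.beq l 0 || Nat.beq l f1 || Nat.beq l f2) && Nat.beq (imC A V i) (imC A V l)) &&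
    ((!Nat.beq (imC A V 0) (imC A V f1)) && ((!Nat.beq (imC A V 0) (imC A V f2)) &&
      (!Nat.beq (imC A V f1) (imC A V f2))))

theorem mapsC_spec {n : mSub} {A U V : ℕ} (hn : Is M n A) (h : mapsC A U V = true) :
    act M n (colR V) = colR U := by
  simp only [mapsC, force_eq, Bool.and_eq_true, Bool.not_eq_true', Nat.beq_eq] at h
  obtain ⟨ha, h01, h02, h12⟩ := h
  have hne : ∀ {a b : ℕ}, Nat.beq a b = false → a ≠ b := fun {a b} e c => by
    rw [c] at e; simp at e
  have hA : ∀ i : Fin 24, pg V (mv M.π n i).val = imC A V i.val := fun i => by rw [hn i]; rfl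
  have hl : ∀ i : Fin 24, (pg U i.val = 0 ∨ pg U i.val = pg U 24 ∨ pg U i.val = pg U 25) ∧
      imC A V i.val = imC A V (pg U i.val) := by
    intro i
    have := all24_spec ha i
    simp only [force_eq, Bool.and_eq_true, Bool.or_eq_true] at this
    obtain ⟨h1, h2⟩ := this
    refine ⟨?_, Nat.eq_of_beq_eq_true h2⟩
    rcases h1 with (h1 | h1) | h1
    exacts [Or.inl (Nat.eq_of_beq_eq_true h1), Or.inr (Or.inl (Nat.eq_of_beq_eq_true h1)),
      Or.inr (Or.inr (Nat.eq_of_beq_eq_true h1))]
  funext i j
  refine propext ?_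
  show pg V (mv M.π n i).val = pg V (mv M.π n j).val ↔ pg U i.val = pg U j.val
  rw [hA, hA, (hl i).2, (hl j).2]
  refine ⟨fun e => ?_, fun e => by rw [e]⟩
  have a := hne h01; have b := hne h02; have c := hne h12
  rcases (hl i).1 with u | u | u <;> rcases (hl j).1 with v | v | v <;> rw [u, v] at e ⊢ <;>
    first
      | rfl
      | exact absurd e a
      | exact absurd e b
      | exact absurd e c
      | exact absurd e.symm a
      | exact absurd e.symm b
      | exact absurd e.symm c

/-- The key of a colouring. -/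
def keyC (c : ℕ) : ℕ := pack (pg c) 24

/-- The colours are least points of blocks. -/
def normC (c : ℕ) : Bool :=
  all24 fun i => Nat.ble (pg c i) i && Nat.beq (pg c (pg c i)) (pg c i)

theorem pack_congr {f g : ℕ → ℕ} : ∀ n, (∀ i < n, f i = g i) → pack f n = pack g n
  | 0, _ => rfl
  | n + 1, h => by
    show Nat.lor (pack f n) _ = Nat.lor (pack g n) _
    rw [pack_congr n fun i hi => h i (hi.trans n.lt_succ_self), h n n.lt_succ_self]

theorem keyC_eq {c d : ℕ} (hc : normC c = true) (hd : normC d = true) (e : colR c = colR d) :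
    keyC c = keyC d := by
  refine pack_congr 24 fun i hi => ?_
  have spec : ∀ {c : ℕ}, normC c = true → ∀ i : Fin 24, pg c i.val ≤ i.val ∧
      pg c (pg c i.val) = pg c i.val := fun h i => by
    have := all24_spec h i
    simp only [Bool.and_eq_true, Nat.ble_eq] at this
    exact ⟨this.1, Nat.eq_of_beq_eq_true this.2⟩
  have step : ∀ {c d : ℕ}, normC c = true → normC d = true → colR c = colR d →
      ∀ i : Fin 24, pg d i.val ≤ pg c i.val := by
    intro c d hc hd e i
    obtain ⟨h1, h2⟩ := spec hc i
    have hr : colR d i ⟨pg c i.val, h1.trans_lt i.isLt⟩ := by rw [← e]; exact h2.symm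
    exact le_of_eq_of_le hr (spec hd ⟨pg c i.val, h1.trans_lt i.isLt⟩).1
  exact le_antisymm (step hd hc e.symm ⟨i, hi⟩) (step hc hd e ⟨i, hi⟩)

/-- The step data of a trio. -/
def stepP (p : ℕ) : ℕ := tab stepTab p

/-- The trio sent by the letter `g` to the trio `p`. -/
def stepQ (g p : ℕ) : ℕ := Nat.land (Nat.shiftRight (stepP p) (Nat.mul 12 g)) 4095

/-- The depth of a trio. -/
def stepD (p : ℕ) : ℕ := Nat.land (Nat.shiftRight (stepP p) 36) 63

/-- The check at a trio. -/
def okTrio (p : ℕ) : Bool :=
  bif Nat.blt p 3795 then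
    force (trioP p) fun c =>
    normC c &&
    ((Nat.beq p 0 || Nat.blt (keyC (trioP (Nat.pred p))) (keyC c)) &&
    (([0, 1, 2].all fun g => Nat.blt (stepQ g p) 3795 &&
        mapsC (letP g) (trioP (stepQ g p)) c) &&
    force (stepD p) fun d =>
      bif Nat.beq d 0 then Nat.beq p trio0 else
        force (Nat.land (Nat.shiftRight (stepP p) 42) 4095) fun u =>
        force (Nat.shiftRight (stepP p) 54) fun g =>
          Nat.blt g 3 && (Nat.blt u 3795 && (Nat.blt (stepD u) d && Nat.beq (stepQ g u) p))))
  else true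

theorem okTrio0 : allR okTrio 10 0 = true := by decide +kernel

theorem okTrio1 : allR okTrio 10 1024 = true := by decide +kernel

theorem okTrio2 : allR okTrio 10 2048 = true := by decide +kernel

theorem okTrio3 : allR okTrio 10 3072 = true := by decide +kernel

theorem trio_ok : ∀ p < 3795,
    normC (trioP p) = true ∧ (p = 0 ∨ keyC (trioP (p - 1)) < keyC (trioP p)) ∧
    (∀ g < 3, stepQ g p < 3795 ∧ mapsC (letP g) (trioP (stepQ g p)) (trioP p) = true) ∧
    (stepD p = 0 → p = trio0) ∧
    (stepD p ≠ 0 → ∃ g < 3, ∃ u < 3795, stepD u < stepD p ∧ stepQ g u = p) := by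
  intro p hp
  have h : okTrio p = true := by
    rcases Nat.lt_or_ge p 1024 with h | h
    · exact allR_spec 10 0 okTrio0 p (Nat.zero_le _) h
    rcases Nat.lt_or_ge p 2048 with h' | h'
    · exact allR_spec 10 1024 okTrio1 p h h'
    rcases Nat.lt_or_ge p 3072 with h'' | h''
    · exact allR_spec 10 2048 okTrio2 p h' h''
    · exact allR_spec 10 3072 okTrio3 p h'' (by omega)
  rw [okTrio, show Nat.blt p 3795 = true from Nat.ble_eq_true_of_le hp, cond_true] at h
  simp only [force_eq, Bool.and_eq_true, Bool.or_eq_true, List.all_eq_true, Nat.blt_eq] at h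
  obtain ⟨hn, hk, hg, hd⟩ := h
  refine ⟨hn, ?_, fun g hg' => hg g (by interval_cases g <;> simp), fun e => ?_, fun e => ?_⟩
  · rcases hk with hk | hk
    exacts [Or.inl (Nat.eq_of_beq_eq_true hk), Or.inr hk]
  · rw [e] at hd
    exact Nat.eq_of_beq_eq_true hd
  · rw [show Nat.beq (stepD p) 0 = false from Bool.eq_false_iff.2 fun c =>
      e (Nat.eq_of_beq_eq_true c), cond_false] at hd
    simp only [Bool.and_eq_true, Nat.blt_eq] at hd
    exact ⟨_, hd.1, _, hd.2.1, hd.2.2.1, Nat.eq_of_beq_eq_true hd.2.2.2⟩

/-- The first trio. -/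
def R0 : Part := colR (trioP trio0)

theorem trio_lt : trio0 < 3795 := by decide +kernel

theorem exists_tr (M : Model) : ∀ p < 3795, ∃ n : mSub, act M n R0 = colR (trioP p) := by
  suffices key : ∀ d p, p < 3795 → stepD p = d → ∃ n : mSub, act M n R0 = colR (trioP p) from
    fun p hp => key _ p hp rfl
  intro d
  induction d using Nat.strong_induction_on with
  | _ d ih =>
    intro p hp hd
    obtain ⟨-, -, -, h0, h1⟩ := trio_ok p hp
    rcases Nat.eq_zero_or_pos (stepD p) with e | e
    · exact ⟨1, by rw [act_one, h0 e]; rfl⟩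
    · obtain ⟨g, hg, u, hu, hlt, hq⟩ := h1 (by omega)
      obtain ⟨n, hn⟩ := ih _ (hd ▸ hlt) u hu rfl
      refine ⟨letM g * n, ?_⟩
      rw [act_mul, hn, mapsC_spec (is_letM g) ((trio_ok u hu).2.2.1 g hg).2, hq]

theorem exists_image (M : Model) (n : mSub) : ∃ p < 3795, act M n R0 = colR (trioP p) := by
  have := M.finite
  have hn : n ∈ Subgroup.closure ({xM, yM} : Set mSub) := by rw [gens_generate]; trivial
  suffices key : ∀ n ∈ Subgroup.closure ({xM, yM} : Set mSub), ∀ p < 3795,
      ∃ q < 3795, act M n (colR (trioP p)) = colR (trioP q) from key n hn trio0 trio_lt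
  intro n hn
  have step : ∀ g < 3, ∀ p < 3795, ∃ q < 3795, act M (letM g) (colR (trioP p)) = colR (trioP q) :=
    fun g hg p hp => ⟨_, ((trio_ok p hp).2.2.1 g hg).1,
      mapsC_spec (is_letM g) ((trio_ok p hp).2.2.1 g hg).2⟩
  have xinv : xM⁻¹ = letM 0 := inv_eq_of_mul_eq_one_right
    (Subtype.ext (by simpa [letM, xM, sq] using xJ_sq))
  induction hn using Subgroup.closure_induction'' with
  | mem v hv =>
    rcases hv with rfl | rfl
    exacts [step 0 (by norm_num), step 1 (by norm_num)]
  | inv_mem v hv =>
    rcases hv with rfl | rfl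
    exacts [xinv ▸ step 0 (by norm_num), step 2 (by norm_num)]
  | one => exact fun p hp => ⟨p, hp, act_one _⟩
  | mul a b _ _ ha hb =>
    intro p hp
    obtain ⟨q, hq, e⟩ := hb p hp
    obtain ⟨r, hr, e'⟩ := ha q hq
    exact ⟨r, hr, by rw [act_mul, e, e']⟩

variable (M) in
/-- The stabiliser of the first trio. -/
def stabT : Subgroup mSub where
  carrier := {n | act M n R0 = R0}
  one_mem' := act_one R0
  mul_mem' := fun {a b} ha hb => by
    show act M (a * b) R0 = R0
    rw [act_mul, hb, ha]
  inv_mem' := fun {a} ha => by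
    show act M a⁻¹ R0 = R0
    conv_lhs => rw [← ha]
    exact act_inv_act a R0

theorem mem_stabT {n : mSub} : n ∈ stabT M ↔ act M n R0 = R0 := Iff.rfl

theorem colR_inj {p q : ℕ} (hp : p < 3795) (hq : q < 3795)
    (e : colR (trioP p) = colR (trioP q)) : p = q := by
  have mono : ∀ b, b < 3795 → ∀ a < b, keyC (trioP a) < keyC (trioP b) := by
    intro b
    induction b with
    | zero => intro _ a ha; omega
    | succ b ih =>
      intro hb a ha
      have h : keyC (trioP b) < keyC (trioP (b + 1)) := by
        rcases (trio_ok (b + 1) hb).2.1 with c | c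
        exacts [absurd c (Nat.succ_ne_zero b), c]
      rcases Nat.lt_succ_iff_lt_or_eq.1 ha with c | rfl
      exacts [(ih (by omega) a c).trans h, h]
  have h := keyC_eq (trio_ok p hp).1 (trio_ok q hq).1 e
  rcases lt_trichotomy p q with c | c | c
  · exact absurd h (mono q hq p c).ne
  · exact c
  · exact absurd h (mono p hp q c).ne'

theorem card_stabT_le : Nat.card (stabT M) ≤ 64512 := by
  classical
  have := M.finite
  have h : Nat.card (Fin 3795 × stabT M) ≤ Nat.card mSub := by
    refine Nat.card_le_card_of_injective (fun z => (exists_tr M z.1.val z.1.isLt).choose * z.2.val) ?_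
    rintro ⟨p, s⟩ ⟨q, r⟩ e
    have hp := (exists_tr M p.val p.isLt).choose_spec
    have hq := (exists_tr M q.val q.isLt).choose_spec
    have e2 := congrArg (fun n => act M n R0) e
    simp only at e e2
    rw [act_mul, act_mul, mem_stabT.1 s.2, mem_stabT.1 r.2, hp, hq] at e2
    obtain rfl : p = q := Fin.ext (colR_inj p.isLt q.isLt e2)
    rw [mul_right_inj] at e
    rw [Subtype.ext e]
  rw [Nat.card_prod, Nat.card_fin] at h
  have := h.trans M.card_le
  omega

end CfsgLib.JankoFourIndex
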