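import Cfsg.Agent.JankoFourIndex.Parts
import Cfsg.Agent.JankoFourIndex.ChainData

/-!
The stabiliser of the first trio commutes with `t`, and all elements are products along a chain.
-/

set_option autoImplicit false
set_option Elab.async false
set_option maxRecDepth 100000

namespace CfsgLib.JankoFourIndex

open CfsgLib.JankoFour CfsgLib.HNCert CfsgLib.CosetEnum Cfsg.Spor

/-- The word `y x y (x y⁻¹)² (x y)³`. -/
def w0Word : List ℕ := [1, 0, 1, 0, 2, 0, 2, 0, 1, 0, 1, 0, 1]

/-- Inverse word. -/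
def invWord (w : List ℕ) : List ℕ :=
  (w.map fun c => if c = 0 then 0 else if c = 1 then 2 else 1).reverse

theorem xM_sq : xM * xM = 1 := Subtype.ext (by simpa [xM, sq] using xJ_sq)

theorem coe_wordM : ∀ w : List ℕ, ((wordM w : mSub) : Cfsg.Spor.J4) =
    (w.map fun c => if c = 0 then xJ else if c = 1 then yJ else yJ⁻¹).prod
  | [] => rfl
  | c :: w => by
    rw [wordM, Subgroup.coe_mul, coe_wordM w, List.map_cons, List.prod_cons, letM]
    split_ifs <;> rfl

/-- The generators of the stabiliser. -/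
def kGens : List ℕ := [permX, wordP w0Word, permX, wordP (invWord w0Word)]

variable {M : Model}

theorem gens_stab : xM ∈ stabT M ∧ wordM w0Word ∈ stabT M := by
  have h0 : mapsC permX (trioP trio0) (trioP trio0) = true := by decide +kernel
  have h1 : mapsC (wordP w0Word) (trioP trio0) (trioP trio0) = true := by decide +kernel
  exact ⟨mapsC_spec is_x h0, mapsC_spec (is_wordM _) h1⟩

theorem commute_xJ : Commute tJ xJ := by
  have h := rel_eq_one (w := J4.t⁻¹ * J4.x⁻¹ * J4.t * J4.x) (by simp [J4.extra])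
  simp only [map_mul, map_inv] at h
  change tJ⁻¹ * xJ⁻¹ * tJ * xJ = 1 at h
  have e : tJ * xJ = xJ * tJ * (tJ⁻¹ * xJ⁻¹ * tJ * xJ) := by group
  rw [h, mul_one] at e
  exact e

theorem commute_w0 : Commute tJ (wordM w0Word : mSub).val := by
  have h := rel_eq_one (w := J4.t⁻¹ * (J4.y * J4.x * J4.y * ((J4.x * J4.y⁻¹) ^ 2) *
    ((J4.x * J4.y) ^ 3))⁻¹ * J4.t * (J4.y * J4.x * J4.y * ((J4.x * J4.y⁻¹) ^ 2) *
    ((J4.x * J4.y) ^ 3))) (by simp [J4.extra])
  simp only [map_mul, map_inv, map_pow] at h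
  change tJ⁻¹ * (yJ * xJ * yJ * ((xJ * yJ⁻¹) ^ 2) * ((xJ * yJ) ^ 3))⁻¹ * tJ *
    (yJ * xJ * yJ * ((xJ * yJ⁻¹) ^ 2) * ((xJ * yJ) ^ 3)) = 1 at h
  have e : (wordM w0Word : mSub).val = yJ * xJ * yJ * ((xJ * yJ⁻¹) ^ 2) * ((xJ * yJ) ^ 3) := by
    rw [coe_wordM]
    simp [w0Word, pow_succ, mul_assoc]
  rw [e]
  generalize yJ * xJ * yJ * ((xJ * yJ⁻¹) ^ 2) * ((xJ * yJ) ^ 3) = v at h ⊢
  have e' : tJ * v = v * tJ * (tJ⁻¹ * v⁻¹ * tJ * v) := by group
  rw [h, mul_one] at e'
  exact e'

/-- The span of two elements commuting with `t`. -/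
def kSub : Subgroup mSub := Subgroup.closure {xM, wordM w0Word}

theorem kGens_mem (M : Model) : ∀ A ∈ kGens, ∃ n ∈ kSub, Is M n A := by
  have hx : xM ∈ kSub := Subgroup.subset_closure (Or.inl rfl)
  have hw : wordM w0Word ∈ kSub := Subgroup.subset_closure (Or.inr rfl)
  intro A hA
  simp only [kGens, List.mem_cons, List.not_mem_nil, or_false] at hA
  rcases hA with rfl | rfl | rfl | rfl
  · exact ⟨_, hx, is_x⟩
  · exact ⟨_, hw, is_wordM _⟩
  · exact ⟨_, hx, is_x⟩
  · exact ⟨_, inv_mem hw, (is_wordM _).inv (by decide +kernel)⟩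

theorem k_ok : okSlp kGens kNodes = true ∧ okChain kNodes kChain = true ∧
    (kChain.map fun e => e.2.length).prod = 64512 := by decide +kernel

theorem stabT_eq (M : Model) : kSub = stabT M := by
  have := M.finite
  have h1 : kSub ≤ stabT M := by
    rw [kSub, Subgroup.closure_le]
    rintro _ (rfl | rfl)
    exacts [gens_stab.1, gens_stab.2]
  refine Subgroup.eq_of_le_of_card_ge h1 ?_
  have h2 := le_card_of_chain (kGens_mem M) k_ok.1 k_ok.2.1
  rw [k_ok.2.2] at h2
  exact card_stabT_le.trans h2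

theorem commute_of_mem_stabT {n : mSub} (h : n ∈ stabT M) : Commute tJ (n : Cfsg.Spor.J4) := by
  rw [← stabT_eq M] at h
  induction h using Subgroup.closure_induction with
  | mem v hv =>
    rcases hv with rfl | rfl
    exacts [commute_xJ, commute_w0]
  | one => exact Commute.one_right _
  | mul a b _ _ ha hb => exact ha.mul_right hb
  | inv a _ ha => exact ha.inv_right

/-- The generators of the whole subgroup. -/
def nGens : List ℕ := [permX, permY, permX, permYI]

theorem nGens_mem (M : Model) : ∀ A ∈ nGens, ∃ n ∈ (⊤ : Subgroup mSub), Is M n A := by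
  intro A hA
  simp only [nGens, List.mem_cons, List.not_mem_nil, or_false] at hA
  rcases hA with rfl | rfl | rfl | rfl
  exacts [⟨_, trivial, is_x⟩, ⟨_, trivial, is_y⟩, ⟨_, trivial, is_x⟩, ⟨_, trivial, is_yInv⟩]

theorem n_ok : okSlp nGens nNodes = true := by decide +kernel

/-- The product of the nodes with given coordinates, the deepest first. -/
def ofCoord (c : ℕ) : List (ℕ × List ℕ) → ℕ
  | [] => pid
  | _ :: D => pmul (ofCoord (Nat.shiftRight c 9) D) (nodeP nNodes (Nat.land c 511))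

/-- The coordinates name nodes. -/
def okCoord (c : ℕ) : List (ℕ × List ℕ) → Bool
  | [] => true
  | _ :: D => Nat.blt (Nat.land c 511) nNodes.length && okCoord (Nat.shiftRight c 9) D

theorem ofCoord_spec (M : Model) : ∀ (D : List (ℕ × List ℕ)) (c : ℕ), okCoord c D = true →
    ∃ n : mSub, Is M n (ofCoord c D)
  | [], _, _ => ⟨1, is_one⟩
  | _ :: D, c, h => by
    simp only [okCoord, Bool.and_eq_true, Nat.blt_eq] at h
    obtain ⟨n, hn⟩ := ofCoord_spec M D _ h.2
    obtain ⟨m, -, hm⟩ := slp_spec (nGens_mem M) n_ok _ h.1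
    exact ⟨n * m, hn.mul hm⟩

end CfsgLib.JankoFourIndex
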