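import Cfsg.Agent.JankoFourIndex.Facts
import Cfsg.Agent.JankoFourIndex.TreeData

/-! The checker for the trees of classes of trios. -/

set_option autoImplicit false
set_option maxRecDepth 100000

namespace CfsgLib.JankoFourIndex

open CfsgLib.CosetEnum

/-- The tree of an orbit at a trio. -/
def treeP (i v : ℕ) : ℕ := tab (treeTabs.getD i []) v

/-- The list of the element of a stabiliser fact. -/
def genP (f : ℕ) : ℕ := pmul (fA f) (fB' f)

/-- The tree is right at a trio. -/
def okTree (i v : ℕ) : Bool :=
  bif Nat.blt v 3795 then
    force (treeP i v) fun c => force (Nat.land c 63) fun d =>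
      bif Nat.beq d 0 then
        force (Nat.shiftRight c 9) fun g =>
          Nat.blt g nFacts && (Nat.beq (fKind g) 1 &&
            (bif Nat.beq (Nat.land (Nat.shiftRight c 8) 1) 1 then
              Nat.beq (fI g) i && mapsC (fA g) (trioP v) c0
            else Nat.beq (fK g) i && mapsC (fB g) (trioP v) c0))
      else
        force (Nat.land (Nat.shiftRight c 6) 3) fun s => force (Nat.shiftRight c 8) fun u =>
          Nat.blt u 3795 && (Nat.blt s (sGens.getD i []).length &&
            (force ((sGens.getD i []).getD s 0) fun f =>
              Nat.blt (Nat.land (treeP i u) 63) d && mapsC (genP f) (trioP v) (trioP u)))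
  else true

end CfsgLib.JankoFourIndex
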