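import Cfsg.Agent.JankoFourIndex.CheckF0
import Cfsg.Agent.JankoFourIndex.CheckF1
import Cfsg.Agent.JankoFourIndex.CheckF2
import Cfsg.Agent.JankoFourIndex.CheckF3
import Cfsg.Agent.JankoFourIndex.CheckF4
import Cfsg.Agent.JankoFourIndex.CheckF5
import Cfsg.Agent.JankoFourIndex.CheckF6
import Cfsg.Agent.JankoFourIndex.CheckF7
import Cfsg.Agent.JankoFourIndex.CheckS
import Cfsg.Agent.JankoFourIndex.CheckT0
import Cfsg.Agent.JankoFourIndex.CheckT1
import Cfsg.Agent.JankoFourIndex.CheckT2
import Cfsg.Agent.JankoFourIndex.CheckT3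
import Cfsg.Agent.JankoFourIndex.CheckT4

/-!
The cosets of `⟨x, y, s⟩` lie in twenty orbits of `⟨x, y⟩`, at most 173067389 of them in all.
-/

set_option autoImplicit false
set_option Elab.async false
set_option maxRecDepth 100000

namespace CfsgLib.JankoFourIndex

open CfsgLib.JankoFour CfsgLib.HNCert CfsgLib.CosetEnum

theorem facts_ok : ∀ i < nFacts, checkFact i = true := by
  intro i hi
  have hi' : i < 1855 := hi
  have key : ∀ lo, allR (fun i => bif Nat.blt i nFacts then checkFact i else true) 8 lo = true →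
      lo ≤ i → i < lo + 256 → checkFact i = true := fun lo h h1 h2 => by
    have := allR_spec 8 lo h i h1 h2
    rwa [show Nat.blt i nFacts = true from Nat.ble_eq_true_of_le hi, cond_true] at this
  rcases Nat.lt_or_ge i 256 with h | h
  · exact key 0 facts_ok0 (Nat.zero_le _) h
  rcases Nat.lt_or_ge i 512 with h | h
  · exact key 256 facts_ok1 (by omega) h
  rcases Nat.lt_or_ge i 768 with h | h
  · exact key 512 facts_ok2 (by omega) h
  rcases Nat.lt_or_ge i 1024 with h | h
  · exact key 768 facts_ok3 (by omega) h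
  rcases Nat.lt_or_ge i 1280 with h | h
  · exact key 1024 facts_ok4 (by omega) h
  rcases Nat.lt_or_ge i 1536 with h | h
  · exact key 1280 facts_ok5 (by omega) h
  rcases Nat.lt_or_ge i 1792 with h | h
  · exact key 1536 facts_ok6 (by omega) h
  · exact key 1792 facts_ok7 (by omega) (by omega)

theorem trees_ok : ∀ i < 20, allR (okTree i) 12 0 = true := by
  intro i hi
  interval_cases i
  exacts [tree_ok0, tree_ok1, tree_ok2, tree_ok3, tree_ok4, tree_ok5, tree_ok6, tree_ok7, tree_ok8,
    tree_ok9, tree_ok10, tree_ok11, tree_ok12, tree_ok13, tree_ok14, tree_ok15, tree_ok16,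
    tree_ok17, tree_ok18, tree_ok19]

/-- The stabiliser of the first coset of an orbit. -/
noncomputable def orbStab (i : ℕ) : Subgroup mSub :=
  hSub.comap ((MulAut.conj (repG i)).toMonoidHom.comp mSub.subtype)

theorem mem_orbStab {i : ℕ} {n : mSub} : n ∈ orbStab i ↔ Same (repG i * n) (repG i) := Iff.rfl

theorem same_left {i : ℕ} {s : mSub} (hs : s ∈ orbStab i) (n : mSub) :
    Same (repG i * (s * n : mSub)) (repG i * n) := by
  have := (mem_orbStab.1 hs).mul_right (n : Cfsg.Spor.J4)
  simpa [mul_assoc] using this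

variable (M : Model)
include M

theorem gen_mem {i f : ℕ} (hf : f < nFacts) (hk : fKind f = 0) (hI : fI f = i) (hK : fK f = i) :
    ∃ s ∈ orbStab i, Is M s (genP f) ∧ Is M s⁻¹ (pmul (fB f) (fA' f)) := by
  obtain ⟨a, b, ha, hb, haa, hbb, hS⟩ := says_of_check (M := M) facts_ok f hf
  rw [hk, if_neg (by norm_num), mul_one, hI, hK] at hS
  refine ⟨a * b⁻¹, ?_, ha.mul (hb.inv hbb), ?_⟩
  · rw [mem_orbStab]
    simpa [mul_assoc] using hS.mul_right (b : Cfsg.Spor.J4)⁻¹
  · rw [mul_inv_rev, inv_inv]
    exact hb.mul (ha.inv haa)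

theorem le_card_orbStab {i : ℕ} (hi : i < 20) :
    244823040 ≤ orbSize.getD i 0 * Nat.card (orbStab i) := by
  obtain ⟨N, D, h⟩ := stab_ok i hi
  simp only [okStab, Bool.and_eq_true, List.all_eq_true, Nat.blt_eq] at h
  obtain ⟨h1, h2, h3, h4⟩ := h
  have hg : ∀ A ∈ sGensP i, ∃ n ∈ orbStab i, Is M n A := by
    intro A hA
    rcases List.mem_append.1 hA with hA | hA <;> obtain ⟨f, hf, rfl⟩ := List.mem_map.1 hA <;>
      obtain ⟨hf', hk, hI, hK⟩ := h4 f hf <;>
      obtain ⟨s, hs, e1, e2⟩ := gen_mem M hf' (Nat.eq_of_beq_eq_true hk)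
        (Nat.eq_of_beq_eq_true hI) (Nat.eq_of_beq_eq_true hK)
    exacts [⟨s, hs, e1⟩, ⟨s⁻¹, inv_mem hs, e2⟩]
  rw [← Nat.eq_of_beq_eq_true h3]
  exact Nat.mul_le_mul_left _ (le_card_of_chain hg h1 h2)

theorem index_orbStab_le {i : ℕ} (hi : i < 20) : (orbStab i).index ≤ orbSize.getD i 0 := by
  have := M.finite
  have h := le_card_orbStab M hi
  have h2 := Subgroup.index_mul_card (orbStab i)
  have hpos : 0 < Nat.card (orbStab i) := Nat.card_pos
  exact Nat.le_of_mul_le_mul_right ((h2.le.trans M.card_le).trans h) hpos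

omit M in
/-- Some representative and element name the coset. -/
def Covered (g : Cfsg.Spor.J4) : Prop := ∃ i < 20, ∃ n : mSub, Same g (repG i * n)

omit M in
theorem ends_lt : ∀ g, g < nFacts → fI g < 20 ∧ fK g < 20 := by decide +kernel

theorem covered_t {i : ℕ} (hi : i < 20) (n : mSub) : Covered (repG i * n * tJ) := by
  obtain ⟨v, hv, hR⟩ := exists_image M n
  revert n
  suffices key : ∀ d v, v < 3795 → Nat.land (treeP i v) 63 = d → ∀ n : mSub,
      act M n R0 = colR (trioP v) → Covered (repG i * n * tJ) from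
    fun n hR => key _ v hv rfl n hR
  intro d
  induction d using Nat.strong_induction_on with
  | _ d ih =>
    intro v hv hd n hR
    have h := allR_spec 12 0 (trees_ok i hi) v (Nat.zero_le _) (by omega)
    rw [okTree, show Nat.blt v 3795 = true from Nat.ble_eq_true_of_le hv, cond_true, force_eq,
      force_eq, hd] at h
    cases h0 : Nat.beq d 0
    · simp only [h0, cond_false, force_eq, Bool.and_eq_true, Nat.blt_eq] at h
      obtain ⟨hu, hs, hlt, hmap⟩ := h
      obtain ⟨N, D, hok⟩ := stab_ok i hi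
      simp only [okStab, Bool.and_eq_true, List.all_eq_true, Nat.blt_eq] at hok
      rw [List.getD_eq_getElem _ _ hs] at hmap
      obtain ⟨hf, hk, hI, hK⟩ := hok.2.2.2 _ (List.getElem_mem hs)
      obtain ⟨s, hsm, hs1, -⟩ := gen_mem M hf (Nat.eq_of_beq_eq_true hk)
        (Nat.eq_of_beq_eq_true hI) (Nat.eq_of_beq_eq_true hK)
      have hR' : act M (s⁻¹ * n) R0 = colR (trioP (Nat.shiftRight (treeP i v) 8)) := by
        rw [act_mul, hR, ← mapsC_spec hs1 hmap, act_inv_act]
      obtain ⟨k, hk20, m, hm⟩ := ih _ hlt _ hu rfl _ hR'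
      refine ⟨k, hk20, m, Same.trans ?_ hm⟩
      exact ((same_left (inv_mem hsm) n).mul_right tJ).symm
    · simp only [h0, cond_true, force_eq, Bool.and_eq_true, Nat.blt_eq] at h
      obtain ⟨hg, hk, h⟩ := h
      obtain ⟨a, b, ha, hb, -, -, hS⟩ := says_of_check (M := M) facts_ok _ hg
      rw [Nat.eq_of_beq_eq_true hk, if_pos rfl] at hS
      have step : ∀ (A : ℕ) (a b : mSub) (k : ℕ), k < 20 → Is M a A →
          mapsC A (trioP v) c0 = true → Same (repG i * a * tJ) (repG k * b) →
          Covered (repG i * n * tJ) := by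
        intro A a b k hk20 ha hm hS
        have hfix : a⁻¹ * n ∈ stabT M := by
          have hm' : act M a R0 = colR (trioP v) := mapsC_spec ha hm
          rw [mem_stabT, act_mul, hR, ← hm', act_inv_act]
        have hc := commute_of_mem_stabT hfix
        refine ⟨k, hk20, b * (a⁻¹ * n), ?_⟩
        rw [Subgroup.coe_mul]
        set c := ((a⁻¹ * n : mSub) : Cfsg.Spor.J4) with hcdef
        have hn : (n : Cfsg.Spor.J4) = a * c := by simp [hcdef]
        rw [hn, ← mul_assoc (repG i), mul_assoc _ c, ← hc.eq, ← mul_assoc]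
        simpa [mul_assoc] using hS.mul_right c
      cases hfw : Nat.beq (Nat.land (Nat.shiftRight (treeP i v) 8) 1) 1
      · simp only [hfw, cond_false, Bool.and_eq_true] at h
        rw [Nat.eq_of_beq_eq_true h.1] at hS
        refine step _ b a _ (ends_lt _ hg).1 hb h.2 ?_
        have := (hS.mul_right tJ).symm
        rwa [mul_assoc (repG _ * _), tJ_mul_self, mul_one] at this
      · simp only [hfw, cond_true, Bool.and_eq_true] at h
        rw [Nat.eq_of_beq_eq_true h.1] at hS
        exact step _ a b _ (ends_lt _ hg).2 ha h.2 hS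

theorem covered_all (g : Cfsg.Spor.J4) : Covered g := by
  have htop : g ∈ Subgroup.closure ({xJ, yJ, tJ} : Set Cfsg.Spor.J4) := by
    have : (⊤ : Subgroup Cfsg.Spor.J4) ≤ Subgroup.closure {xJ, yJ, tJ} := by
      rw [← PresentedGroup.closure_range_of, Subgroup.closure_le]
      rintro _ ⟨a, rfl⟩
      cases a
      exacts [Subgroup.subset_closure (Or.inl rfl), Subgroup.subset_closure (Or.inr (Or.inl rfl)),
        Subgroup.subset_closure (Or.inr (Or.inr rfl))]
    exact this (Subgroup.mem_top g)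
  have hmem : ∀ z ∈ (mSub : Subgroup Cfsg.Spor.J4), ∀ g, Covered g → Covered (g * z) := by
    rintro z hz g ⟨i, hi, n, h⟩
    exact ⟨i, hi, n * ⟨z, hz⟩, by simpa [mul_assoc] using h.mul_right z⟩
  have ht : ∀ g, Covered g → Covered (g * tJ) := by
    rintro g ⟨i, hi, n, h⟩
    obtain ⟨k, hk, m, h'⟩ := covered_t M hi n
    exact ⟨k, hk, m, (h.mul_right tJ).trans h'⟩
  have h1 : Covered 1 := ⟨0, by norm_num, 1, by simpa [repG_zero] using Same.refl 1⟩
  suffices key : ∀ z ∈ Subgroup.closure ({xJ, yJ, tJ} : Set Cfsg.Spor.J4), ∀ g, Covered g →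
      Covered (g * z) by
    simpa using key g htop 1 h1
  intro z hz
  induction hz using Subgroup.closure_induction'' with
  | mem z hz =>
    rcases hz with rfl | rfl | rfl
    exacts [hmem _ (Subgroup.subset_closure (Or.inl rfl)),
      hmem _ (Subgroup.subset_closure (Or.inr rfl)), ht]
  | inv_mem z hz =>
    rcases hz with rfl | rfl | rfl
    exacts [hmem _ (inv_mem (Subgroup.subset_closure (Or.inl rfl))),
      hmem _ (inv_mem (Subgroup.subset_closure (Or.inr rfl))), fun g h => tJ_inv.symm ▸ ht g h]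
  | one => exact fun g h => by rwa [mul_one]
  | mul a b _ _ ha hb => exact fun g h => by rw [← mul_assoc]; exact hb _ (ha g h)

/-- A left coset from an orbit and a coset of its stabiliser. -/
noncomputable def cover (x : Σ j : Fin 20, mSub ⧸ orbStab j.val) : Cfsg.Spor.J4 ⧸ hSub :=
  QuotientGroup.mk ((repG x.1.val * ((x.2.out)⁻¹ : mSub)) : Cfsg.Spor.J4)⁻¹

theorem cover_surjective : Function.Surjective cover := by
  intro q
  induction q using QuotientGroup.induction_on with
  | _ y =>
    obtain ⟨i, hi, n, h⟩ := covered_all M y⁻¹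
    refine ⟨⟨⟨i, hi⟩, ((n⁻¹ : mSub) : mSub ⧸ orbStab i)⟩, ?_⟩
    obtain ⟨s, hs⟩ := QuotientGroup.mk_out_eq_mul (orbStab i) n⁻¹
    show QuotientGroup.mk ((repG i * (((n⁻¹ : mSub) : mSub ⧸ orbStab i).out⁻¹ : mSub)) :
      Cfsg.Spor.J4)⁻¹ = _
    rw [hs]
    refine QuotientGroup.eq.2 ?_
    have h' := (same_left (inv_mem s.2) n).trans h.symm
    simpa [Same, mul_assoc] using h'

theorem finite_quotient : Finite (Cfsg.Spor.J4 ⧸ hSub) := by
  have := M.finite
  exact Finite.of_surjective _ (cover_surjective M)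

theorem index_le : hSub.index ≤ 173067389 := by
  have := M.finite
  refine (Nat.card_le_card_of_surjective _ (cover_surjective M)).trans ?_
  rw [Nat.card_sigma]
  calc ∑ j : Fin 20, Nat.card (mSub ⧸ orbStab j.val) ≤ ∑ j : Fin 20, orbSize.getD j.val 0 :=
        Finset.sum_le_sum fun j _ => index_orbStab_le M j.isLt
    _ = 173067389 := by decide +kernel

end CfsgLib.JankoFourIndex
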